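import Cfsg.Agent.N2.Defs

/-!
# N2 (S3519): counting fixed cosets; the structure `MI` (helper59)
-/

set_option autoImplicit false
set_option linter.unusedSectionVars false

namespace Cfsg.Agent.N2

open Cfsg.Agent.FP3 Subgroup MulAction
open scoped Pointwise

section count

variable {T : Type*} [Group T]

/-- the order of the centraliser -/
noncomputable def cn (a : T) : ℕ := Nat.card (centralizer ({a} : Set T))

/-- the number of conjugates of `a` in `A` -/
noncomputable def cc (A : Subgroup T) (a : T) : ℕ := Nat.card {g : T // IsConj a g ∧ g ∈ A}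

/-- the number of cosets of `A` fixed by the subgroup `R` -/
noncomputable def fs (A R : Subgroup T) : ℕ := Nat.card {x : T ⧸ A // ∀ r ∈ R, r • x = x}

/-- the conjugate `t⁻¹ R t` -/
def cj (t : T) (R : Subgroup T) : Subgroup T := R.comap (MulAut.conj t).toMonoidHom

theorem mem_cj {t x : T} {R : Subgroup T} : x ∈ cj t R ↔ t * x * t⁻¹ ∈ R := Iff.rfl

theorem smul_mk_iff (A : Subgroup T) (a t : T) : a • (t : T ⧸ A) = t ↔ t⁻¹ * a * t ∈ A := by
  rw [MulAction.Quotient.smul_coe, smul_eq_mul, eq_comm, QuotientGroup.eq, mul_assoc]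

/-- a set of elements which is a union of cosets -/
theorem card_pre (A : Subgroup T) (p : T ⧸ A → Prop) :
    Nat.card {t : T // p t} = Nat.card {x : T ⧸ A // p x} * Nat.card A := by
  rw [← Nat.card_prod]
  refine Nat.card_congr ((Equiv.subtypeEquiv (groupEquivQuotientProdSubgroup (s := A)) (q := fun y => p y.1) fun t => ?_).trans ?_)
  · rfl
  · exact ⟨fun y => (⟨y.1.1, y.2⟩, y.1.2), fun y => ⟨(y.1.1, y.2), y.1.2⟩, fun _ => rfl, fun _ => rfl⟩

theorem card_fib {α β : Type*} [Finite α] (f : α → β) (c : ℕ) (h : ∀ b, Nat.card {a // f a = b} = c) :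
    Nat.card α = Nat.card β * c := by
  classical
  rcases Nat.eq_zero_or_pos c with rfl | hc
  · rcases isEmpty_or_nonempty α with e | ⟨⟨a⟩⟩
    · simp
    · have : Nonempty {x // f x = f a} := ⟨⟨a, rfl⟩⟩
      exact absurd (h (f a)) Nat.card_pos.ne'
  · have hs : Function.Surjective f := fun b => by
      obtain ⟨⟨a, ha⟩⟩ := (Nat.card_pos_iff.1 (hc.trans_eq (h b).symm)).1
      exact ⟨a, ha⟩
    have := Finite.of_surjective f hs
    have := Fintype.ofFinite β
    rw [← Nat.card_congr (Equiv.sigmaFiberEquiv f), Nat.card_sigma]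
    simp [h]

variable [Finite T]

/-- `fix(a) |A| = |C(a)| |a^T ∩ A|` -/
theorem fx_mul (A : Subgroup T) (a : T) : fx A a * Nat.card A = cn a * cc A a := by
  have h1 := card_pre A fun x => a • x = x
  have h2 : fx A a = Nat.card {x : T ⧸ A // a • x = x} := rfl
  rw [h2, ← h1, mul_comm]
  let f : {t : T // a • (t : T ⧸ A) = t} → {g : T // IsConj a g ∧ g ∈ A} := fun t =>
    ⟨t.1⁻¹ * a * t.1, isConj_iff.2 ⟨t.1⁻¹, by rw [inv_inv]⟩, (smul_mk_iff A a t.1).1 t.2⟩
  refine card_fib f _ fun ⟨b, hb, hA⟩ => ?_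
  obtain ⟨c, hc⟩ := isConj_iff.1 hb
  refine Nat.card_congr ⟨fun t => ⟨t.1.1 * c, ?_⟩, fun z => ⟨⟨z.1 * c⁻¹, ?_⟩, ?_⟩, fun t => ?_, fun z => ?_⟩
  · have h : t.1.1⁻¹ * a * t.1.1 = b := congrArg Subtype.val t.2
    rw [mem_centralizer_singleton_iff]
    generalize t.1.1 = u at h
    have : u * c * a = u * (c * a * c⁻¹) * c := by group
    rw [this, hc.trans h.symm]
    group
  · have h := mem_centralizer_singleton_iff.1 z.2
    rw [smul_mk_iff]
    have : (z.1 * c⁻¹)⁻¹ * a * (z.1 * c⁻¹) = c * (z.1⁻¹ * (a * z.1)) * c⁻¹ := by group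
    rw [this, ← h, inv_mul_cancel_left, hc]
    exact hA
  · have h := mem_centralizer_singleton_iff.1 z.2
    refine Subtype.ext ?_
    have : (z.1 * c⁻¹)⁻¹ * a * (z.1 * c⁻¹) = c * (z.1⁻¹ * (a * z.1)) * c⁻¹ := by group
    change (z.1 * c⁻¹)⁻¹ * a * (z.1 * c⁻¹) = b
    rw [this, ← h, inv_mul_cancel_left, hc]
  · exact Subtype.ext (Subtype.ext (by simp))
  · exact Subtype.ext (by simp)

theorem cc_le (A : Subgroup T) (a : T) : cc A a ≤ Nat.card A :=
  Nat.card_le_card_of_injective (fun g => (⟨g.1, g.2.2⟩ : A)) fun _ _ h => Subtype.ext (Subtype.mk.inj h)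

theorem fx_le_cn (A : Subgroup T) (a : T) : fx A a ≤ cn a := by
  have h := fx_mul A a
  have h1 : cn a * cc A a ≤ cn a * Nat.card A := Nat.mul_le_mul_left _ (cc_le A a)
  exact Nat.le_of_mul_le_mul_right (h ▸ h1) Nat.card_pos

theorem good_of_le {A : Subgroup T} {a : T} (ha : a ∈ A) {c : ℕ} (h : fx A a ≤ c) (hc : c ^ 3 * Nat.card A ≤ Nat.card T) :
    Good A := by
  refine ⟨a, ha, (Nat.pow_le_pow_left h 3).trans (Nat.le_of_mul_le_mul_right ?_ (Nat.card_pos (α := A)))⟩
  rwa [A.index_mul_card]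

/-- **criterion 1**: `|C(a)|³ |A| ≤ |T|` -/
theorem good_of_cn {A : Subgroup T} {a : T} (ha : a ∈ A) {c : ℕ} (h : cn a ≤ c) (hc : c ^ 3 * Nat.card A ≤ Nat.card T) :
    Good A := good_of_le ha ((fx_le_cn A a).trans h) hc

/-- **criterion 2**: `(|C(a)| |a^T ∩ A|)³ ≤ |T| |A|²` -/
theorem good_of_cc {A : Subgroup T} {a : T} (ha : a ∈ A) {c d : ℕ} (h : cn a ≤ c) (h' : cc A a ≤ d)
    (hc : (c * d) ^ 3 ≤ Nat.card T * Nat.card A ^ 2) : Good A := by
  refine ⟨a, ha, Nat.le_of_mul_le_mul_right ?_ (pow_pos (Nat.card_pos (α := A)) 3)⟩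
  rw [← mul_pow, fx_mul]
  calc (cn a * cc A a) ^ 3 ≤ (c * d) ^ 3 := Nat.pow_le_pow_left (Nat.mul_le_mul h h') 3
    _ ≤ _ := hc
    _ = _ := by rw [← A.index_mul_card]; ring

theorem good_of_one {A : Subgroup T} {a : T} (ha : a ∈ A) (h : fx A a ≤ 1) : Good A :=
  good_of_le ha h (by rw [one_pow, one_mul]; exact A.card_le_card_group)

/-- `a` lies in only one conjugate of `A` -/
theorem fx_le_one {A : Subgroup T} {a : T} (h : ∀ t, t⁻¹ * a * t ∈ A → t ∈ A) : fx A a ≤ 1 := by
  refine Finite.card_le_one_iff_subsingleton.2 ⟨fun ⟨x, hx⟩ ⟨y, hy⟩ => Subtype.ext ?_⟩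
  induction x using QuotientGroup.induction_on
  induction y using QuotientGroup.induction_on
  exact QuotientGroup.eq.2 (A.mul_mem (A.inv_mem (h _ ((smul_mk_iff A a _).1 hx))) (h _ ((smul_mk_iff A a _).1 hy)))

theorem fx_le_fs (A : Subgroup T) {a : T} {R : Subgroup T} (h : R ≤ zpowers a) : fx A a ≤ fs A R :=
  Nat.card_le_card_of_injective (fun x => ⟨x.1, fun r hr => by
    have h1 : zpowers a ≤ stabilizer T x.1 := zpowers_le.2 x.2
    exact h1 (h hr)⟩) fun _ _ e => Subtype.ext (Subtype.mk.inj e)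

theorem fx_le_pow (A : Subgroup T) (a : T) (k : ℕ) : fx A a ≤ fx A (a ^ k) :=
  Nat.card_le_card_of_injective (fun x => ⟨x.1, (stabilizer T x.1).pow_mem x.2 k⟩) fun _ _ e =>
    Subtype.ext (Subtype.mk.inj e)

theorem fixes_iff (A R : Subgroup T) (t : T) : (∀ r ∈ R, r • (t : T ⧸ A) = t) ↔ cj t R ≤ A := by
  refine ⟨fun h x hx => ?_, fun h r hr => (smul_mk_iff A r t).2 (h ?_)⟩
  · have := (smul_mk_iff A _ t).1 (h _ hx)
    simpa [mul_assoc] using this
  · rw [mem_cj]
    simpa [mul_assoc] using hr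

/-- `fix(R) |A| = #{t : t⁻¹ R t ≤ A}` -/
theorem fs_mul' (A R : Subgroup T) : fs A R * Nat.card A = Nat.card {t : T // cj t R ≤ A} := by
  rw [fs, ← card_pre A fun x => ∀ r ∈ R, r • x = x]
  exact Nat.card_congr (Equiv.subtypeEquivRight (fixes_iff A R))

/-- `fix(R) = |N_T(R) : N_A(R)|` if the conjugates of `R` in `A` are conjugate in `A` -/
theorem fs_mul {A R : Subgroup T} (hR : R ≤ A) (h : ∀ t, cj t R ≤ A → ∃ b ∈ A, cj t R = cj b R) :
    fs A R * Nat.card ↥(normalizer (R : Set T) ⊓ A) = Nat.card (normalizer (R : Set T)) := by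
  symm
  let f : normalizer (R : Set T) → {x : T ⧸ A // ∀ r ∈ R, r • x = x} := fun n => ⟨(n.1 : T ⧸ A), (fixes_iff A R _).2 fun x hx =>
    hR ((mem_normalizer_iff.1 n.2 x).2 hx)⟩
  refine card_fib f _ fun ⟨x, hx⟩ => ?_
  induction x using QuotientGroup.induction_on with
  | H t =>
  obtain ⟨b, hb, e⟩ := h t ((fixes_iff A R t).1 hx)
  have hn : t * b⁻¹ ∈ normalizer (R : Set T) := mem_normalizer_iff.2 fun y => by
    have h1 : b⁻¹ * y * b ∈ cj t R ↔ b⁻¹ * y * b ∈ cj b R := by rw [e]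
    rw [mem_cj, mem_cj] at h1
    have e1 : b * (b⁻¹ * y * b) * b⁻¹ = y := by group
    have e2 : t * (b⁻¹ * y * b) * t⁻¹ = t * b⁻¹ * y * (t * b⁻¹)⁻¹ := by group
    rw [e1, e2] at h1
    exact h1.symm
  refine Nat.card_congr ⟨fun n => ⟨(t * b⁻¹)⁻¹ * n.1.1, Subgroup.mul_mem _ (Subgroup.inv_mem _ hn) n.1.2, ?_⟩,
    fun z => ⟨⟨t * b⁻¹ * z.1, mul_mem hn z.2.1⟩, ?_⟩, fun n => ?_, fun z => ?_⟩
  · have h1 : ((n.1.1 : T) : T ⧸ A) = t := congrArg Subtype.val n.2
    have h2 := QuotientGroup.eq.1 h1.symm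
    have : (t * b⁻¹)⁻¹ * n.1.1 = b * (t⁻¹ * n.1.1) := by group
    exact this ▸ A.mul_mem hb h2
  · refine Subtype.ext (QuotientGroup.eq.2 ?_).symm
    have : t⁻¹ * (t * b⁻¹ * z.1) = b⁻¹ * z.1 := by group
    exact this ▸ A.mul_mem (A.inv_mem hb) z.2.2
  · exact Subtype.ext (Subtype.ext (mul_inv_cancel_left _ _))
  · exact Subtype.ext (inv_mul_cancel_left _ _)

theorem card_cj (t : T) (R : Subgroup T) : Nat.card (cj t R) = Nat.card R :=
  Nat.card_congr ⟨fun x => ⟨t * x.1 * t⁻¹, x.2⟩, fun y => ⟨t⁻¹ * y.1 * t, by rw [mem_cj]; simp [mul_assoc]⟩,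
    fun x => Subtype.ext (by simp [mul_assoc]), fun y => Subtype.ext (by simp [mul_assoc])⟩

/-- `fix(R) = |N_T(R) : N_A(R)|` if `R` is a Sylow subgroup **of `A`** -/
theorem fs_sylow {A R : Subgroup T} {p : ℕ} (hp : p.Prime) (hR : R ≤ A) (hP : IsPGroup p R) (hi : ¬ p ∣ R.relIndex A) :
    fs A R * Nat.card ↥(normalizer (R : Set T) ⊓ A) = Nat.card (normalizer (R : Set T)) := by
  have : Fact p.Prime := ⟨hp⟩
  refine fs_mul hR fun t ht => ?_
  have k : ∀ {Q : Subgroup T}, Q ≤ A → Nat.card (Q.subgroupOf A) = Nat.card Q := fun h =>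
    Nat.card_congr (subgroupOfEquivOfLe h).toEquiv
  have h1 : IsPGroup p (R.subgroupOf A) := hP.of_equiv (subgroupOfEquivOfLe hR).symm
  obtain ⟨n, hn⟩ := IsPGroup.iff_card.1 hP
  have h2 : IsPGroup p ((cj t R).subgroupOf A) := IsPGroup.of_card (n := n) (by rw [k ht, card_cj, hn])
  have hi2 : ((cj t R).subgroupOf A).index = (R.subgroupOf A).index := by
    have e1 := ((cj t R).subgroupOf A).index_mul_card
    have e2 := (R.subgroupOf A).index_mul_card
    rw [k ht, card_cj] at e1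
    rw [k hR, ← e1] at e2
    exact (Nat.eq_of_mul_eq_mul_right Nat.card_pos e2).symm
  obtain ⟨b, hb⟩ := MulAction.exists_smul_eq A (h2.toSylow (hi2 ▸ hi)) (h1.toSylow hi)
  have hb' : MulAut.conj b • (cj t R).subgroupOf A = R.subgroupOf A := congrArg Sylow.toSubgroup hb
  refine ⟨b, b.2, eq_of_le_of_card_ge (fun x hx => ?_) (by rw [card_cj, card_cj])⟩
  have h3 : MulAut.conj b • (⟨x, ht hx⟩ : A) ∈ R.subgroupOf A := hb' ▸ smul_mem_pointwise_smul _ _ _ hx
  exact h3

/-- **criterion 3**: a Sylow subgroup `R ≤ ⟨a⟩` of `A` with `|N_T(R) : N_A(R)| ≤ c` -/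
theorem good_of_sylow {A R : Subgroup T} {a : T} (ha : a ∈ A) (hR : R ≤ zpowers a) {p : ℕ} (hp : p.Prime)
    (hP : IsPGroup p R) (hi : ¬ p ∣ R.relIndex A) {c : ℕ}
    (h : Nat.card (normalizer (R : Set T)) ≤ c * Nat.card ↥(normalizer (R : Set T) ⊓ A))
    (hc : c ^ 3 * Nat.card A ≤ Nat.card T) : Good A := by
  refine good_of_le ha ((fx_le_fs A hR).trans ?_) hc
  rw [← fs_sylow hp (hR.trans (zpowers_le.2 ha)) hP hi] at h
  exact Nat.le_of_mul_le_mul_right h Nat.card_pos

/-- averaging over a set of elements -/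
theorem good_of_avg {A : Subgroup T} (K : Finset T) (hK : K.Nonempty) (hA : ∀ a ∈ K, a ∈ A) {c : ℕ}
    (h : ∑ a ∈ K, fx A a ≤ K.card * c) (hc : c ^ 3 * Nat.card A ≤ Nat.card T) : Good A := by
  obtain ⟨a, ha, h1⟩ := Finset.exists_le_of_sum_le hK (f := fun a => fx A a) (g := fun _ => c) (by simpa using h)
  exact good_of_le (hA a ha) h1 hc

end count

section transport

variable {G T : Type*} [Group G] [Group T]

/-- the cosets of the preimage under an epimorphism -/
theorem fx_comap (π : G →* T) (hπ : Function.Surjective π) (A : Subgroup T) (g : G) : fx (A.comap π) g = fx A (π g) := by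
  let f : G ⧸ A.comap π → T ⧸ A := Quotient.map' π fun a b h => by
    rw [QuotientGroup.leftRel_apply] at h ⊢
    simpa using h
  have hf : ∀ x : G, f x = (π x : T ⧸ A) := fun _ => rfl
  have hb : Function.Bijective f := by
    constructor
    · intro x y
      induction x using QuotientGroup.induction_on
      induction y using QuotientGroup.induction_on
      intro h
      rw [hf, hf, QuotientGroup.eq] at h
      exact QuotientGroup.eq.2 (by simpa using h)
    · intro y
      induction y using QuotientGroup.induction_on with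
      | H t =>
      obtain ⟨x, rfl⟩ := hπ t
      exact ⟨x, rfl⟩
  refine Nat.card_congr (Equiv.subtypeEquiv (Equiv.ofBijective f hb) fun x => ?_)
  induction x using QuotientGroup.induction_on with
  | H t =>
  change g • (t : G ⧸ A.comap π) = t ↔ π g • (π t : T ⧸ A) = π t
  rw [smul_mk_iff, smul_mk_iff, mem_comap, map_mul, map_mul, map_inv]

/-- **covers**: work in `SL`, `Sp`, `SU`, `Ω` or any group mapping onto `T` -/
theorem good_comap (π : G →* T) (hπ : Function.Surjective π) (A : Subgroup T) : Good (A.comap π) ↔ Good A := by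
  unfold Good
  rw [index_comap_of_surjective A hπ]
  refine ⟨fun ⟨a, ha, h⟩ => ⟨π a, ha, by rwa [← fx_comap π hπ]⟩, fun ⟨a, ha, h⟩ => ?_⟩
  obtain ⟨g, rfl⟩ := hπ a
  exact ⟨g, ha, by rwa [fx_comap π hπ]⟩

/-- **overgroups**: if `G = ι(T) H`, the cosets of `H` in `G` are the cosets of `A = ι⁻¹(H)` in `T` -/
theorem fx_over (ι : T →* G) (H : Subgroup G) (h : ∀ g : G, ∃ t : T, (ι t)⁻¹ * g ∈ H) (a : T) :
    fx (H.comap ι) a = fx H (ι a) ∧ (H.comap ι).index = H.index := by
  let f : T ⧸ H.comap ι → G ⧸ H := Quotient.map' ι fun a b h => by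
    rw [QuotientGroup.leftRel_apply] at h ⊢
    simpa using h
  have hf : ∀ x : T, f x = (ι x : G ⧸ H) := fun _ => rfl
  have hb : Function.Bijective f := by
    constructor
    · intro x y
      induction x using QuotientGroup.induction_on
      induction y using QuotientGroup.induction_on
      intro h
      rw [hf, hf, QuotientGroup.eq] at h
      exact QuotientGroup.eq.2 (by simpa using h)
    · intro y
      induction y using QuotientGroup.induction_on with
      | H g =>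
      obtain ⟨t, ht⟩ := h g
      exact ⟨t, QuotientGroup.eq.2 ht⟩
  refine ⟨Nat.card_congr (Equiv.subtypeEquiv (Equiv.ofBijective f hb) fun x => ?_), Nat.card_congr (Equiv.ofBijective f hb)⟩
  induction x using QuotientGroup.induction_on with
  | H t =>
  change a • (t : T ⧸ H.comap ι) = t ↔ ι a • (ι t : G ⧸ H) = ι t
  rw [smul_mk_iff, smul_mk_iff, mem_comap, map_mul, map_mul, map_inv]

theorem mi_comap (e : G ≃* T) {A : Subgroup T} {Γ : Subgroup (MulAut T)} (h : MI A Γ) :
    MI (A.comap e.toMonoidHom) (Γ.comap (MulAut.congr e).toMonoidHom) where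
  max B hB hi := by
    rcases h.max (B.comap e.symm.toMonoidHom) (fun a ha => hB (show e (e.symm a) ∈ A by simpa using ha))
      (fun σ hσ b hb => by
        have := hi ((MulAut.congr e).symm σ) (show MulAut.congr e ((MulAut.congr e).symm σ) ∈ Γ by
          rwa [MulEquiv.apply_symm_apply]) _ hb
        simpa [mem_comap] using this) with k | k
    · left
      ext x
      rw [← k]
      simp [mem_comap]
    · right
      refine eq_top_iff.2 fun x _ => ?_
      have : e x ∈ B.comap e.symm.toMonoidHom := k ▸ mem_top _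
      simpa [mem_comap] using this
  ne_top k := h.ne_top (eq_top_iff.2 fun t _ => by
    have : e.symm t ∈ A.comap e.toMonoidHom := k ▸ mem_top _
    simpa [mem_comap] using this)
  ne_bot k := h.ne_bot (eq_bot_iff.2 fun t ht => by
    have : e.symm t ∈ A.comap e.toMonoidHom := by simpa [mem_comap] using ht
    rw [k, mem_bot] at this
    exact mem_bot.2 (by simpa using congrArg e this))
  conj a := by
    have : MulAut.congr e (MulAut.conj a) = MulAut.conj (e a) := by
      ext x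
      simp
    change MulAut.congr e (MulAut.conj a) ∈ Γ ↔ e a ∈ A
    rw [this, h.conj]
  inv σ hσ a := by
    have := h.inv _ hσ (e a)
    simpa [mem_comap] using this

theorem asRow_congr (e : G ≃* T) (h : ASRow G) : ASRow T := fun A _ hA =>
  (good_comap e.toMonoidHom e.surjective A).1 (h _ _ (mi_comap e hA))

theorem cn_congr (e : G ≃* T) (a : G) : cn (e a) = cn a := by
  refine Nat.card_congr ⟨fun x => ⟨e.symm x.1, ?_⟩, fun x => ⟨e x.1, ?_⟩, fun x => Subtype.ext (by simp),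
    fun x => Subtype.ext (by simp)⟩
  · have := mem_centralizer_singleton_iff.1 x.2
    rw [mem_centralizer_singleton_iff]
    simpa using congrArg e.symm this
  · have := mem_centralizer_singleton_iff.1 x.2
    rw [mem_centralizer_singleton_iff]
    simpa using congrArg e this

theorem centRow_congr (e : G ≃* T) (h : CentRow G) : CentRow T := by
  obtain ⟨t, ht⟩ := h
  refine ⟨e t, ?_⟩
  have h1 : cn (e t) = cn t := cn_congr e t
  unfold cn at h1
  rwa [h1, ← Nat.card_congr e.toEquiv]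

end transport

section mi

variable {T : Type*} [Group T] [IsSimpleGroup T] {A : Subgroup T} {Γ : Subgroup (MulAut T)}

/-- `E` is `Γ`-invariant -/
def Inv (Γ : Subgroup (MulAut T)) (E : Subgroup T) : Prop := ∀ σ ∈ Γ, ∀ x ∈ E, σ x ∈ E

theorem Inv.iff {E : Subgroup T} (h : Inv Γ E) {σ : MulAut T} (hσ : σ ∈ Γ) (x : T) : σ x ∈ E ↔ x ∈ E :=
  ⟨fun k => by simpa using h _ (Γ.inv_mem hσ) _ k, h σ hσ x⟩

theorem Inv.normalizer {E : Subgroup T} (h : Inv Γ E) : Inv Γ (normalizer (E : Set T)) := fun σ hσ b hb =>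
  mem_normalizer_iff.2 fun y => by
    obtain ⟨y, rfl⟩ := σ.surjective y
    rw [← map_inv, ← map_mul, ← map_mul, h.iff hσ, h.iff hσ]
    exact mem_normalizer_iff.1 hb y

theorem Inv.centralizer {E : Subgroup T} (h : Inv Γ E) : Inv Γ (centralizer (E : Set T)) := fun σ hσ b hb =>
  mem_centralizer_iff.2 fun y hy => by
    obtain ⟨y, rfl⟩ := σ.surjective y
    rw [← map_mul, ← map_mul, mem_centralizer_iff.1 hb y ((h.iff hσ y).1 hy)]

theorem mi_inv (h : MI A Γ) : Inv Γ A := fun σ hσ x hx => (h.inv σ hσ x).2 hx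

/-- an invariant proper subgroup over `A` is `A` -/
theorem mi_eq (h : MI A Γ) {B : Subgroup T} (hi : Inv Γ B) (hB : A ≤ B) (ht : B ≠ ⊤) : B = A :=
  (h.max B hB hi).resolve_right ht

/-- **`A` is the normaliser of every invariant subgroup `1 < E < T`** -/
theorem mi_norm (h : MI A Γ) {E : Subgroup T} (hi : Inv Γ E) (h1 : E ≠ ⊥) (h2 : E ≠ ⊤) : normalizer (E : Set T) = A := by
  refine mi_eq h hi.normalizer (fun a ha => mem_normalizer_iff.2 fun y => (hi.iff ((h.conj a).2 ha) y).symm) fun k => ?_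
  exact (normalizer_eq_top_iff.1 k).eq_bot_or_eq_top.elim h1 h2

theorem mi_le (h : MI A Γ) {E : Subgroup T} (hi : Inv Γ E) (h2 : E ≠ ⊤) : E ≤ A := by
  by_cases h1 : E = ⊥
  · exact h1 ▸ bot_le
  · exact mi_norm h hi h1 h2 ▸ le_normalizer

theorem mi_self (h : MI A Γ) : normalizer (A : Set T) = A := mi_norm h (mi_inv h) h.ne_bot h.ne_top

/-- the restriction of `σ ∈ Γ` to `A` -/
def resAut (h : MI A Γ) (σ : MulAut T) (hσ : σ ∈ Γ) : MulAut A where
  toFun a := ⟨σ a, (h.inv σ hσ a).2 a.2⟩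
  invFun a := ⟨σ.symm a, (h.inv σ hσ _).1 (by simp)⟩
  left_inv a := Subtype.ext (by simp)
  right_inv a := Subtype.ext (by simp)
  map_mul' a b := Subtype.ext (by simp)

/-- characteristic subgroups of `A` are invariant -/
theorem mi_char (h : MI A Γ) (E : Subgroup A) [hE : E.Characteristic] : Inv Γ (E.map A.subtype) := by
  rintro σ hσ _ ⟨x, hx, rfl⟩
  exact ⟨resAut h σ hσ x, characteristic_iff_le_comap.1 hE (resAut h σ hσ) hx, rfl⟩

/-- the inner automorphisms -/
abbrev Inn (T : Type*) [Group T] : Subgroup (MulAut T) := (MulAut.conj : T →* MulAut T).range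

/-- **`Γ` is a maximal subgroup of the almost simple group `Inn T ⊔ Γ`** -/
theorem mi_covBy (h : MI A Γ) : Γ ⋖ Inn T ⊔ Γ := by
  have hn : (Inn T).Normal := ⟨by
    rintro _ ⟨t, rfl⟩ σ
    exact ⟨σ t, by ext x; simp⟩⟩
  refine ⟨lt_of_le_of_ne le_sup_right fun k => h.ne_top (eq_top_iff.2 fun t _ => (h.conj t).1 ?_), fun K h1 h2 => ?_⟩
  · exact k ▸ mem_sup_left ⟨t, rfl⟩
  · rcases h.max (K.comap MulAut.conj) (fun a ha => h1.le ((h.conj a).2 ha)) (fun σ hσ b hb => by
      have : MulAut.conj (σ b) = σ * MulAut.conj b * σ⁻¹ := by ext x; simp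
      rw [mem_comap, this]
      exact K.mul_mem (K.mul_mem (h1.le hσ) hb) (K.inv_mem (h1.le hσ))) with k | k
    · refine h1.not_ge fun σ hσ => ?_
      obtain ⟨_, ⟨t, rfl⟩, γ, hγ, rfl⟩ := (mem_sup_of_normal_left).1 (h2.le hσ)
      have h3 : t ∈ K.comap MulAut.conj := by
        have := K.mul_mem hσ (K.inv_mem (h1.le hγ))
        rwa [mul_inv_cancel_right] at this
      exact Γ.mul_mem ((h.conj t).2 (k ▸ h3)) hγ
    · refine h2.not_ge (sup_le ?_ h1.le)
      rintro _ ⟨t, rfl⟩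
      exact (k ▸ mem_top t : t ∈ K.comap MulAut.conj)

end mi

end Cfsg.Agent.N2
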