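import Cfsg.Agent.FP3.Defs
import Cfsg.Prelude.Def_Classification2

/-!
# N2 (S3519): the rows of the boxes `AS` and `Cent` by family (helper59)
-/

set_option autoImplicit false

namespace Cfsg.Agent.N2

open Cfsg Cfsg.Agent.FP3

/-- a family of groups -/
abbrev Fam := ∀ (T : Type) [Group T], Prop

/-- the classification, as a hypothesis -/
def Cf : Prop := ∀ (S : Type) [Group S] [Finite S] [IsSimpleGroup S], IsKnownSimple' S

/-- the box `AS` for a family -/
def Row (P : Fam) : Prop := ∀ (T : Type) [Group T] [Finite T] [IsSimpleGroup T], ¬ IsMulCommutative T → P T → ASRow T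

/-- the box `Cent` for a family -/
def CRow (P : Fam) : Prop := ∀ (T : Type) [Group T] [Finite T] [IsSimpleGroup T], ¬ IsMulCommutative T → P T → CentRow T

def fA : Fam := fun T _ => IsAlternating T
def fL : Fam := fun T _ => IsPSL T
def fS : Fam := fun T _ => IsPSp T
def fU : Fam := fun T _ => IsPSU T
def fO : Fam := fun T _ => IsPOmegaOdd T
def fP : Fam := fun T _ => IsPOmegaPlus T
def fM : Fam := fun T _ => IsPOmegaMinus T
def fG2 : Fam := fun T _ => Lie.IsoChevG2 T
def fF4 : Fam := fun T _ => Lie.IsoF4 T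
def fE6 : Fam := fun T _ => Lie.IsoChevE6 T
def fE7 : Fam := fun T _ => Lie.IsoE7 T
def fE8 : Fam := fun T _ => Lie.IsoE8 T
def f2E6 : Fam := fun T _ => Lie.Iso2E6 T
def f3D4 : Fam := fun T _ => Lie.Iso3D4 T
def fSz : Fam := fun T _ => Lie.IsoSuzuki T
def fRee : Fam := fun T _ => Lie.IsoRee T
def f2F4 : Fam := fun T _ => Lie.Iso2F4 T
def fTits : Fam := fun T _ => Lie.IsoTits T
def fSpor : Fam := fun T _ => IsSporadicGroup T

/-- a property of all nineteen families -/
structure All (R : Fam → Prop) : Prop where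
  a : R fA
  l : R fL
  s : R fS
  u : R fU
  o : R fO
  p : R fP
  m : R fM
  g2 : R fG2
  f4 : R fF4
  e6 : R fE6
  e7 : R fE7
  e8 : R fE8
  te6 : R f2E6
  td4 : R f3D4
  sz : R fSz
  ree : R fRee
  tf4 : R f2F4
  tits : R fTits
  spor : R fSpor

theorem all_of {Q : Fam} (cf : Cf)
    (h : All fun P => ∀ (T : Type) [Group T] [Finite T] [IsSimpleGroup T], ¬ IsMulCommutative T → P T → Q T)
    (T : Type) [Group T] [Finite T] [IsSimpleGroup T] (hn : ¬ IsMulCommutative T) : Q T := by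
  rcases cf T with k | k | k | k | k | k | k | k | (k | k | k | k | k | k | k | k | k | k | k) | k
  · have : Fact (Nat.card T).Prime := ⟨k⟩
    have : IsCyclic T := isCyclic_of_prime_card (p := Nat.card T) rfl
    exact absurd (inferInstance : IsMulCommutative T) hn
  exacts [h.a T hn k, h.l T hn k, h.s T hn k, h.u T hn k, h.o T hn k, h.p T hn k, h.m T hn k, h.g2 T hn k, h.f4 T hn k,
    h.e6 T hn k, h.e7 T hn k, h.e8 T hn k, h.te6 T hn k, h.td4 T hn k, h.sz T hn k, h.ree T hn k, h.tf4 T hn k,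
    h.tits T hn k, h.spor T hn k]

theorem as_of (cf : Cf) (h : All Row) : AS := fun T _ _ _ hn => all_of (Q := fun T _ => ASRow T) cf h T hn

theorem cent_of (cf : Cf) (h : All CRow) : Cent := fun T _ _ _ hn => all_of (Q := fun T _ => CentRow T) cf h T hn

theorem Row.or {P P₁ P₂ : Fam} (h₁ : Row P₁) (h₂ : Row P₂) (hP : ∀ (T : Type) [Group T], P T → P₁ T ∨ P₂ T) : Row P :=
  fun T _ _ _ hn k => (hP T k).elim (h₁ T hn) (h₂ T hn)

theorem CRow.or {P P₁ P₂ : Fam} (h₁ : CRow P₁) (h₂ : CRow P₂) (hP : ∀ (T : Type) [Group T], P T → P₁ T ∨ P₂ T) : CRow P :=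
  fun T _ _ _ hn k => (hP T k).elim (h₁ T hn) (h₂ T hn)

end Cfsg.Agent.N2
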